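import Mathlib

/-!
Etale charts to affine space inducing an isomorphism of residue fields, for a finite residue field.
-/

namespace Groth.Agent.EtaleChart

universe u

open TensorProduct KaehlerDifferential

section Coords

variable (k : Type u) [CommRing k] [IsLocalRing k] [Finite (IsLocalRing.ResidueField k)]
  {R : Type u} [CommRing R] [Algebra k R] [Algebra.FiniteType k R] (m : Ideal R) [m.IsMaximal]

theorem exists_coords (hm : m.comap (algebraMap k R) = IsLocalRing.maximalIdeal k) (d : ℕ) (hd : 0 < d)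
    (hdim : Module.finrank (R ⧸ m) ((R ⧸ m) ⊗[R] KaehlerDifferential k R) = d) :
    ∃ x : Fin d → R,
      Function.Surjective ((Ideal.Quotient.mkₐ k m).comp (MvPolynomial.aeval x)) ∧
      Submodule.span (R ⧸ m) (Set.range fun i => (1 : R ⧸ m) ⊗ₜ[R] D k R (x i)) = ⊤ := by
  classical
  letI : Field (R ⧸ m) := Ideal.Quotient.field m
  let k₀ := IsLocalRing.ResidueField k
  letI : Algebra k₀ (R ⧸ m) :=
    (Ideal.quotientMap m (algebraMap k R) hm.ge).toAlgebra
  haveI : IsScalarTower k k₀ (R ⧸ m) := IsScalarTower.of_algebraMap_eq fun _ => rfl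
  haveI : Algebra.FiniteType k (R ⧸ m) :=
    Algebra.FiniteType.of_surjective (Ideal.Quotient.mkₐ k m) Ideal.Quotient.mk_surjective
  haveI : Algebra.FiniteType k₀ (R ⧸ m) := Algebra.FiniteType.of_restrictScalars_finiteType k k₀ _
  haveI : Module.Finite k₀ (R ⧸ m) := finite_of_finite_type_of_isJacobsonRing k₀ _
  haveI : PerfectField k₀ := PerfectField.ofFinite
  haveI : Algebra.IsSeparable k₀ (R ⧸ m) := Algebra.IsAlgebraic.isSeparable_of_perfectField
  haveI : Algebra.FormallyUnramified k₀ (R ⧸ m) := Algebra.FormallyUnramified.of_isSeparable k₀ _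
  haveI : Algebra.FormallyUnramified k k₀ :=
    Algebra.FormallyUnramified.of_surjective (Algebra.ofId k k₀) IsLocalRing.residue_surjective
  haveI : Algebra.FormallyUnramified k (R ⧸ m) := Algebra.FormallyUnramified.comp k k₀ _
  haveI : Subsingleton (KaehlerDifferential k (R ⧸ m)) := inferInstance
  have hsurj : ∀ z : (R ⧸ m) ⊗[R] KaehlerDifferential k R, ∃ y ∈ m, (1 : R ⧸ m) ⊗ₜ[R] D k R y = z := by
    intro z
    obtain ⟨c, rfl⟩ := (KaehlerDifferential.exact_kerCotangentToTensor_mapBaseChange k R (R ⧸ m)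
      Ideal.Quotient.mk_surjective z).1 (Subsingleton.elim _ _)
    obtain ⟨⟨y, hy⟩, rfl⟩ := Ideal.toCotangent_surjective _ c
    refine ⟨y, ?_, ?_⟩
    · exact (Ideal.Quotient.eq_zero_iff_mem).1 hy
    · exact (KaehlerDifferential.kerCotangentToTensor_toCotangent k R (R ⧸ m) ⟨y, hy⟩).symm
  obtain ⟨θ, hθ⟩ := Field.exists_primitive_element k₀ (R ⧸ m)
  obtain ⟨t, rfl⟩ := Ideal.Quotient.mk_surjective θ
  let b := Module.finBasisOfFinrankEq (R ⧸ m) _ hdim
  let i₀ : Fin d := ⟨0, hd⟩
  choose y hy hyz using fun i => hsurj (b i - if i = i₀ then (1 : R ⧸ m) ⊗ₜ[R] D k R t else 0)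
  refine ⟨fun i => (if i = i₀ then t else 0) + y i, ?_, ?_⟩
  · have hmem : ∀ w : R ⧸ m, w ∈ ((Ideal.Quotient.mkₐ k m).comp
        (MvPolynomial.aeval fun i => (if i = i₀ then t else 0) + y i)).range := by
      intro w
      have htop : Algebra.adjoin k₀ ({Ideal.Quotient.mk m t} : Set (R ⧸ m)) = ⊤ := by
        rw [← IntermediateField.adjoin_simple_toSubalgebra_of_isAlgebraic
          (Algebra.IsAlgebraic.isAlgebraic _), hθ, IntermediateField.top_toSubalgebra]
      have hw : w ∈ Algebra.adjoin k₀ ({Ideal.Quotient.mk m t} : Set (R ⧸ m)) := htop ▸ trivial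
      induction hw using Algebra.adjoin_induction with
      | mem z hz =>
        rw [Set.mem_singleton_iff] at hz
        refine ⟨MvPolynomial.X i₀, ?_⟩
        simp [hz, Ideal.Quotient.eq_zero_iff_mem.2 (hy i₀)]
      | algebraMap c =>
        obtain ⟨c, rfl⟩ := IsLocalRing.residue_surjective c
        exact ⟨algebraMap k _ c, AlgHom.commutes _ c⟩
      | add a b _ _ ha hb => exact add_mem ha hb
      | mul a b _ _ ha hb => exact mul_mem ha hb
    exact fun w => hmem w
  · rw [eq_top_iff, ← b.span_eq]
    refine Submodule.span_mono ?_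
    rintro _ ⟨i, rfl⟩
    refine ⟨i, ?_⟩
    show (1 : R ⧸ m) ⊗ₜ[R] D k R _ = b i
    rw [map_add, TensorProduct.tmul_add, hyz]
    split_ifs <;> simp

end Coords

theorem isEtaleAt_of_span {k R : Type u} [CommRing k] [CommRing R] [Algebra k R]
    [Algebra.FinitePresentation k R] (m : Ideal R) [m.IsMaximal] [Algebra.IsSmoothAt k m] {d : ℕ}
    (hdim : Module.finrank (R ⧸ m) ((R ⧸ m) ⊗[R] KaehlerDifferential k R) = d) (x : Fin d → R)
    (hspan : Submodule.span (R ⧸ m) (Set.range fun i => (1 : R ⧸ m) ⊗ₜ[R] D k R (x i)) = ⊤) :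
    letI := (MvPolynomial.aeval (R := k) x).toRingHom.toAlgebra
    Algebra.IsEtaleAt (MvPolynomial (Fin d) k) m := by
  classical
  letI := (MvPolynomial.aeval (R := k) x).toRingHom.toAlgebra
  haveI : IsScalarTower k (MvPolynomial (Fin d) k) R :=
    IsScalarTower.of_algebraMap_eq fun r => ((MvPolynomial.aeval (R := k) x).commutes r).symm
  let P := MvPolynomial (Fin d) k
  let Rm := Localization.AtPrime m
  haveI : Algebra.FormallySmooth k Rm := ‹Algebra.IsSmoothAt k m›
  haveI : Algebra.EssFiniteType k Rm := Algebra.EssFiniteType.comp k R Rm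
  haveI : Module.Flat Rm (KaehlerDifferential k Rm) := inferInstance
  haveI : Module.Free Rm (KaehlerDifferential k Rm) := Module.free_of_flat_of_isLocalRing
  let Dl : KaehlerDifferential k R →ₗ[R] KaehlerDifferential k Rm := map k k R Rm
  haveI : IsLocalizedModule m.primeCompl Dl := inferInstance
  have hbc : IsBaseChange Rm Dl := (isLocalizedModule_iff_isBaseChange m.primeCompl Rm _).1 inferInstance
  have hN : Submodule.span Rm (Set.range fun i => D k Rm (algebraMap R Rm (x i))) = ⊤ := by
    refine eq_top_iff.2 (Submodule.le_of_le_smul_of_le_jacobson_bot (I := IsLocalRing.maximalIdeal Rm)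
      Module.Finite.fg_top (by rw [IsLocalRing.jacobson_eq_maximalIdeal ⊥ bot_ne_top]) ?_)
    intro z _
    obtain ⟨⟨w, s⟩, hz⟩ := IsLocalizedModule.surj m.primeCompl Dl z
    have key : Dl w ∈ Submodule.span Rm (Set.range fun i => D k Rm (algebraMap R Rm (x i))) ⊔
        IsLocalRing.maximalIdeal Rm • (⊤ : Submodule Rm (KaehlerDifferential k Rm)) := by
      let W : Submodule R (KaehlerDifferential k R) :=
        Submodule.span R (Set.range fun i => D k R (x i))
      have hW : w ∈ W ⊔ m • ⊤ := by
        have hmem : (1 : R ⧸ m) ⊗ₜ[R] w ∈ Submodule.span (R ⧸ m)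
            (Set.range fun i => (1 : R ⧸ m) ⊗ₜ[R] D k R (x i)) := hspan ▸ trivial
        obtain ⟨c, hc⟩ := (Submodule.mem_span_range_iff_exists_fun _).1 hmem
        choose c' hc' using fun i => Ideal.Quotient.mk_surjective (c i)
        have h0 : (1 : R ⧸ m) ⊗ₜ[R] (w - ∑ i, c' i • D k R (x i)) = 0 := by
          rw [TensorProduct.tmul_sub, TensorProduct.tmul_sum, ← hc, sub_eq_zero]
          refine Finset.sum_congr rfl fun i _ => ?_
          rw [TensorProduct.tmul_smul, TensorProduct.smul_tmul', TensorProduct.smul_tmul', ← hc' i]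
          congr 1
          all_goals simp [Algebra.smul_def]
        have h1 := congrArg (TensorProduct.quotTensorEquivQuotSMul (KaehlerDifferential k R) m) h0
        rw [map_zero, show (1 : R ⧸ m) = Ideal.Quotient.mk m 1 from rfl,
          TensorProduct.quotTensorEquivQuotSMul_mk_tmul, one_smul] at h1
        have h2 := (Submodule.Quotient.mk_eq_zero _).1 h1
        have := Submodule.add_mem_sup (S := W)
          (Submodule.sum_mem W (t := Finset.univ) (f := fun i => c' i • D k R (x i)) fun i _ => Submodule.smul_mem W (c' i) (Submodule.subset_span ⟨i, rfl⟩)) h2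
        rwa [add_sub_cancel] at this
      obtain ⟨a, ha, b, hb, hab⟩ := Submodule.mem_sup.1 hW
      rw [← hab, map_add]
      refine Submodule.add_mem_sup ?_ ?_
      · have hle : W ≤ Submodule.comap Dl ((Submodule.span Rm
            (Set.range fun i => D k Rm (algebraMap R Rm (x i)))).restrictScalars R) := by
          rw [Submodule.span_le]
          rintro _ ⟨i, rfl⟩
          rw [SetLike.mem_coe, Submodule.mem_comap, Submodule.restrictScalars_mem]
          beta_reduce
          rw [show Dl (D k R (x i)) = D k Rm (algebraMap R Rm (x i)) from KaehlerDifferential.map_D ..]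
          exact Submodule.subset_span ⟨i, rfl⟩
        exact hle ha
      · refine Submodule.smul_induction_on hb (fun r hr e _ => ?_) (fun p q hp hq => ?_)
        · rw [map_smul, ← algebraMap_smul Rm r]
          refine Submodule.smul_mem_smul ?_ trivial
          rw [← Localization.AtPrime.map_eq_maximalIdeal]
          exact Ideal.mem_map_of_mem _ hr
        · rw [map_add]; exact add_mem hp hq
    have hsu : IsUnit (algebraMap R Rm s) := IsLocalization.map_units Rm s
    have hz' : z = hsu.unit⁻¹.1 • Dl w := by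
      rw [← hz, Submonoid.smul_def, ← algebraMap_smul Rm (s : R) z, smul_smul, IsUnit.val_inv_mul, one_smul]
    rw [hz']
    exact Submodule.smul_mem _ _ key
  let κ := m.ResidueField
  have hrank : Module.finrank Rm (KaehlerDifferential k Rm) = d := by
    have e1 : κ ⊗[Rm] KaehlerDifferential k Rm ≃ₗ[κ] κ ⊗[R] KaehlerDifferential k R :=
      (TensorProduct.AlgebraTensorModule.congr (LinearEquiv.refl κ κ) hbc.equiv.symm).trans
        (TensorProduct.AlgebraTensorModule.cancelBaseChange R Rm κ κ (KaehlerDifferential k R))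
    have e2 : κ ⊗[R ⧸ m] ((R ⧸ m) ⊗[R] KaehlerDifferential k R) ≃ₗ[κ] κ ⊗[R] KaehlerDifferential k R :=
      TensorProduct.AlgebraTensorModule.cancelBaseChange R (R ⧸ m) κ κ (KaehlerDifferential k R)
    letI : Field (R ⧸ m) := Ideal.Quotient.field m
    rw [← Module.finrank_baseChange (R := κ) (S := Rm), e1.finrank_eq, ← e2.finrank_eq,
      Module.finrank_baseChange, hdim]
  let bΩ := Module.finBasisOfFinrankEq Rm _ hrank
  let f : (Fin d → Rm) →ₗ[Rm] KaehlerDifferential k Rm :=
    Fintype.linearCombination Rm fun i => D k Rm (algebraMap R Rm (x i))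
  have hfsurj : Function.Surjective f := by
    rw [← LinearMap.range_eq_top, Fintype.range_linearCombination]
    exact hN
  have hfinj : Function.Injective f := by
    have := OrzechProperty.injective_of_surjective_endomorphism (bΩ.equivFun.toLinearMap ∘ₗ f)
      (bΩ.equivFun.surjective.comp hfsurj)
    exact fun a b h => this (congrArg bΩ.equivFun h)
  let bP := (KaehlerDifferential.mvPolynomialBasis k (Fin d)).baseChange Rm
  have hX : ∀ i, mapBaseChange k P Rm (bP i) = D k Rm (algebraMap R Rm (x i)) := fun i => by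
    rw [Module.Basis.baseChange_apply, KaehlerDifferential.mvPolynomialBasis_apply, mapBaseChange_tmul,
      one_smul, map_D, IsScalarTower.algebraMap_apply P R Rm]
    congr 2
    exact MvPolynomial.aeval_X x i
  have hmb : mapBaseChange k P Rm = f ∘ₗ bP.equivFun.toLinearMap := bP.ext fun i => by
    rw [hX, LinearMap.comp_apply, LinearEquiv.coe_coe, show bP.equivFun (bP i) = Pi.single i 1 from funext fun j => by simp [Pi.single_apply, Finsupp.single_apply, eq_comm]]
    simp [f, Fintype.linearCombination_apply]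
  have hbij : Function.Bijective (mapBaseChange k P Rm) := by
    rw [hmb]
    exact Function.Bijective.comp (g := ⇑f) ⟨hfinj, hfsurj⟩ bP.equivFun.bijective
  haveI : Subsingleton (KaehlerDifferential P Rm) := by
    refine subsingleton_of_forall_eq 0 fun z => ?_
    obtain ⟨z', rfl⟩ := KaehlerDifferential.map_surjective k P Rm z
    obtain ⟨w, rfl⟩ := hbij.2 z'
    exact (KaehlerDifferential.exact_mapBaseChange_map k P Rm).apply_apply_eq_zero w
  haveI : Subsingleton (Algebra.H1Cotangent P Rm) := by
    refine subsingleton_of_forall_eq 0 fun z => ?_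
    have h0 : mapBaseChange k P Rm (Algebra.H1Cotangent.δ k P Rm z) = 0 :=
      (Algebra.H1Cotangent.exact_δ_mapBaseChange k P Rm).apply_apply_eq_zero z
    obtain ⟨w, rfl⟩ := (Algebra.H1Cotangent.exact_map_δ k P Rm z).1
      (hbij.1 (h0.trans (map_zero _).symm))
    rw [Subsingleton.elim w 0, map_zero]
  exact (Algebra.formallyEtale_iff P Rm).2 ⟨inferInstance, inferInstance⟩

theorem exists_chart (k : Type u) [CommRing k] [IsLocalRing k] [Finite (IsLocalRing.ResidueField k)]
    (R : Type u) [CommRing R] [Algebra k R] [Algebra.FinitePresentation k R] (m : Ideal R) [m.IsMaximal]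
    (hm : m.comap (algebraMap k R) = IsLocalRing.maximalIdeal k) [Algebra.IsSmoothAt k m] (d : ℕ)
    (hd : 0 < d) (hdim : Module.finrank (R ⧸ m) ((R ⧸ m) ⊗[R] KaehlerDifferential k R) = d) :
    ∃ g : R, g ∉ m ∧ ∃ φ : MvPolynomial (Fin d) k →ₐ[k] Localization.Away g, φ.toRingHom.Etale ∧
      Function.Surjective ((Ideal.Quotient.mk (m.map (algebraMap R (Localization.Away g)))).comp
        φ.toRingHom) := by
  obtain ⟨x, hsurj, hspan⟩ := exists_coords k m hm d hd hdim
  have het := isEtaleAt_of_span m hdim x hspan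
  letI := (MvPolynomial.aeval (R := k) x).toRingHom.toAlgebra
  haveI : IsScalarTower k (MvPolynomial (Fin d) k) R :=
    IsScalarTower.of_algebraMap_eq fun r => ((MvPolynomial.aeval (R := k) x).commutes r).symm
  haveI : Algebra.FinitePresentation (MvPolynomial (Fin d) k) R :=
    Algebra.FinitePresentation.of_restrict_scalars_finitePresentation k _ _
  obtain ⟨_, ⟨_, ⟨g, rfl⟩, rfl⟩, hgm, hg⟩ := PrimeSpectrum.isBasis_basic_opens.exists_subset_of_mem_open
    (show (⟨m, inferInstance⟩ : PrimeSpectrum R) ∈ Algebra.etaleLocus (MvPolynomial (Fin d) k) R from het)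
    Algebra.isOpen_etaleLocus
  have hgm' : g ∉ m := by simpa using hgm
  have hE := Algebra.basicOpen_subset_etaleLocus_iff_etale.1 hg
  refine ⟨g, hgm', (IsScalarTower.toAlgHom k R _).comp (MvPolynomial.aeval x), ?_, ?_⟩
  · exact RingHom.etale_algebraMap.2 hE
  · intro z
    obtain ⟨z, rfl⟩ := Ideal.Quotient.mk_surjective z
    obtain ⟨⟨r, ⟨_, n, rfl⟩⟩, hz⟩ := IsLocalization.surj (Submonoid.powers g) z
    obtain ⟨q, hq⟩ := Ideal.Quotient.maximal_ideal_iff_isField_quotient m |>.1 ‹_› |>.mul_inv_cancel
      (a := Ideal.Quotient.mk m (g ^ n)) (by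
        rw [Ne, Ideal.Quotient.eq_zero_iff_mem]
        exact fun h => hgm' ((Ideal.IsMaximal.isPrime ‹_›).mem_of_pow_mem n h))
    obtain ⟨s, rfl⟩ := Ideal.Quotient.mk_surjective q
    obtain ⟨p, hp⟩ := hsurj (Ideal.Quotient.mk m (r * s))
    refine ⟨p, Ideal.Quotient.eq.2 ?_⟩
    have h1 : MvPolynomial.aeval x p - r * s ∈ m := Ideal.Quotient.eq.1 hp
    have h2 : g ^ n * s - 1 ∈ m := Ideal.Quotient.eq.1 (by rw [map_mul, map_one]; exact hq)
    show algebraMap R _ (MvPolynomial.aeval x p) - z ∈ _
    have e : algebraMap R (Localization.Away g) (MvPolynomial.aeval x p) - z =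
        algebraMap R _ (MvPolynomial.aeval x p - r * s) + z * algebraMap R _ (g ^ n * s - 1) := by
      simp only [map_sub, map_mul, map_one]
      rw [← hz]
      ring
    rw [e]
    exact add_mem (Ideal.mem_map_of_mem _ h1) (Ideal.mul_mem_left _ _ (Ideal.mem_map_of_mem _ h2))

end Groth.Agent.EtaleChart
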